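import Groth.Agent.H1CdOne.Lift
import Groth.Prelude.Def_Wider
import Mathlib

/-!
# Affineness of the punctured spectrum from a partition of unity
-/

universe u

set_option autoImplicit false
set_option backward.isDefEq.respectTransparency false
set_option backward.isDefEq.respectTransparency.types false

open CategoryTheory AlgebraicGeometry Opposite

namespace Groth.Agent.H1CdOne

variable {A : Type u} [CommRing A]

/-- A linear form on a power of `I` as a function on the punctured spectrum is locally a fraction. -/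
theorem exists_section (I : Ideal A) (c : ℕ) (φ : ↥(I ^ (c + 1)) →ₗ[A] A) :
    ∃ g : StructureSheaf.sectionsSubmodule A (LocCoh.puncturedOpen A I),
      ∀ (x : (LocCoh.puncturedOpen A I : TopologicalSpace.Opens (PrimeSpectrum.Top A))) (a : ↥(I ^ (c + 1)))
        (ha : (a : A) ∉ (x.1 : PrimeSpectrum A).asIdeal),
        g.1 x = LocalizedModule.mk (φ a) (⟨(a : A), ha⟩ : (x.1 : PrimeSpectrum A).asIdeal.primeCompl) := by
  classical
  have hex : ∀ x : (LocCoh.puncturedOpen A I : TopologicalSpace.Opens (PrimeSpectrum.Top A)),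
      ∃ a : ↥(I ^ (c + 1)), (a : A) ∉ (x.1 : PrimeSpectrum A).asIdeal := by
    intro x
    obtain ⟨a, ha, hax⟩ := SetLike.not_le_iff_exists.mp (fun hle : I ≤ (x.1 : PrimeSpectrum A).asIdeal => x.2 hle)
    exact ⟨⟨a ^ (c + 1), Ideal.pow_mem_pow ha _⟩, fun h => hax ((x.1 : PrimeSpectrum A).isPrime.mem_of_pow_mem _ h)⟩
  choose a₀ ha₀ using hex
  have key : ∀ a b : ↥(I ^ (c + 1)), (b : A) * φ a = (a : A) * φ b := fun a b => by
    rw [← smul_eq_mul, ← map_smul, ← smul_eq_mul, ← map_smul]
    exact congrArg φ (Subtype.ext (mul_comm _ _))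
  let g : ∀ x : (LocCoh.puncturedOpen A I : TopologicalSpace.Opens (PrimeSpectrum.Top A)),
      StructureSheaf.Localizations A x.1 := fun x =>
    LocalizedModule.mk (φ (a₀ x)) (⟨(a₀ x : A), ha₀ x⟩ : (x.1 : PrimeSpectrum A).asIdeal.primeCompl)
  have heq : ∀ (x : (LocCoh.puncturedOpen A I : TopologicalSpace.Opens (PrimeSpectrum.Top A))) (a : ↥(I ^ (c + 1)))
      (ha : (a : A) ∉ (x.1 : PrimeSpectrum A).asIdeal), g x = LocalizedModule.mk (φ a) (⟨(a : A), ha⟩ : (x.1 : PrimeSpectrum A).asIdeal.primeCompl) := by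
    intro x a ha
    refine LocalizedModule.mk_eq.mpr ⟨1, ?_⟩
    simp only [one_smul, Submonoid.smul_def, smul_eq_mul]
    exact key (a₀ x) a
  refine ⟨⟨g, fun x => ?_⟩, heq⟩
  refine ⟨LocCoh.puncturedOpen A I ⊓ PrimeSpectrum.basicOpen ((a₀ x : A)), ⟨x.2, ha₀ x⟩, homOfLE inf_le_left,
    φ (a₀ x), (a₀ x : A), fun y => ⟨y.2.2, heq ⟨y.1, y.2.1⟩ (a₀ x) y.2.2⟩⟩

/-- A partition of unity by linear forms makes the punctured spectrum affine. -/
theorem isAffine_of_lift (I : Ideal A) {r : ℕ} (f : Fin r → A) (hf : ∀ j, f j ∈ I) (c : ℕ)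
    (φ : Fin r → (↥(I ^ (c + 1)) →ₗ[A] A)) (h : ∀ x : ↥(I ^ (c + 1)), (x : A) = ∑ j, f j * φ j x) :
    IsAffine (↑(LocCoh.puncturedOpen A I) : Scheme.{u}) := by
  classical
  let W := LocCoh.puncturedOpen A I
  choose g hg using fun j => exists_section I c (φ j)
  let R := Γ(Spec (CommRingCat.of A), W)
  let s : Fin r → R := fun j => StructureSheaf.toOpenₗ A A (W : TopologicalSpace.Opens (PrimeSpectrum.Top A)) (f j)
  let t : Fin r → R := fun j => (⟨(g j).1, (g j).2⟩ :
    (StructureSheaf.sectionsSubmodule A (W : TopologicalSpace.Opens (PrimeSpectrum.Top A))))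
  have hsum : ∑ j, s j * t j = (1 : R) := by
    apply Subtype.ext
    funext x
    obtain ⟨a, ha⟩ : ∃ a : ↥(I ^ (c + 1)), (a : A) ∉ (x.1 : PrimeSpectrum A).asIdeal := by
      obtain ⟨a, ha, hax⟩ := SetLike.not_le_iff_exists.mp (fun hle : I ≤ (x.1 : PrimeSpectrum A).asIdeal => x.2 hle)
      exact ⟨⟨a ^ (c + 1), Ideal.pow_mem_pow ha _⟩, fun h => hax ((x.1 : PrimeSpectrum A).isPrime.mem_of_pow_mem _ h)⟩
    let ev : R →+* StructureSheaf.Localizations A x.1 :=
      { toFun := fun u => u.1 x
        map_one' := rfl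
        map_mul' := fun _ _ => rfl
        map_zero' := rfl
        map_add' := fun _ _ => rfl }
    show ev (∑ j, s j * t j) = ev 1
    rw [map_sum, map_one]
    have hterm : ∀ j, ev (s j * t j) =
        LocalizedModule.mk (f j * φ j a) (⟨(a : A), ha⟩ : (x.1 : PrimeSpectrum A).asIdeal.primeCompl) := by
      intro j
      rw [map_mul]
      show (LocalizedModule.mk (f j) 1 : StructureSheaf.Localizations A x.1) * (g j).1 x = _
      rw [hg j x a ha, LocalizedModule.mk_mul_mk, one_mul]
    rw [Finset.sum_congr rfl fun j _ => hterm j]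
    let den : (x.1 : PrimeSpectrum A).asIdeal.primeCompl := ⟨(a : A), ha⟩
    let L : A →ₗ[A] StructureSheaf.Localizations A x.1 :=
      { toFun := fun u => LocalizedModule.mk u den
        map_add' := fun u v => by
          rw [LocalizedModule.mk_add_mk]
          refine LocalizedModule.mk_eq.mpr ⟨1, ?_⟩
          simp only [one_smul, Submonoid.smul_def, smul_eq_mul, Submonoid.coe_mul]
          ring
        map_smul' := fun r u => (LocalizedModule.smul'_mk r u den).symm }
    show ∑ j, L (f j * φ j a) = _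
    rw [← map_sum, ← h a]
    show LocalizedModule.mk (a : A) den = _
    exact (LocalizedModule.mk_eq.mpr ⟨1, by simp [den, Submonoid.smul_def]⟩ :
      LocalizedModule.mk (a : A) den = LocalizedModule.mk (1 : A) 1).trans OreLocalization.one_def.symm
  refine isAffineOpen_of_isAffineOpen_basicOpen (X := Spec (CommRingCat.of A)) W (Set.range s) ?_ ?_
  · rw [Ideal.eq_top_iff_one, ← hsum]
    exact Ideal.sum_mem _ fun j _ => Ideal.mul_mem_right _ _ (Ideal.subset_span ⟨j, rfl⟩)
  · rintro _ ⟨j, rfl⟩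
    have hs : s j = ((Spec (CommRingCat.of A)).presheaf.map (homOfLE (le_top : W ≤ ⊤)).op)
        ((Scheme.ΓSpecIso (CommRingCat.of A)).inv (f j)) := rfl
    rw [hs, Scheme.basicOpen_res, basicOpen_eq_of_affine]
    have hle : (PrimeSpectrum.basicOpen (f j) : (Spec (CommRingCat.of A)).Opens) ≤ W :=
      fun z hz hle => hz (hle (hf j))
    rw [inf_eq_right.mpr hle]
    exact IsAffineOpen.Spec_basicOpen (R := CommRingCat.of A) (f j)

end Groth.Agent.H1CdOne
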