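import Groth.Agent.LC.CohColim
import Groth.Agent.LC.CdDim
import Mathlib

/-!
# Cohomological dimension one: lifting the inclusion of a power of the ideal
-/

universe u

set_option autoImplicit false
set_option backward.isDefEq.respectTransparency false
set_option backward.isDefEq.respectTransparency.types false

open CategoryTheory

namespace Groth.Agent.H1CdOne

variable {A : Type u} [CommRing A]

/-- The sequence `0 → I^n → A → A/I^n → 0`. -/
noncomputable def powSeq (I : Ideal A) (n : ℕ) : ShortComplex (ModuleCat.{u} A) :=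
  ShortComplex.mk (X₁ := ModuleCat.of A ↥(I ^ n)) (X₂ := ModuleCat.of A A) (X₃ := LC.qObj I n)
    (ModuleCat.ofHom (Submodule.subtype (I ^ n))) (ModuleCat.ofHom (Submodule.mkQ (I ^ n)))
    (ModuleCat.hom_ext (LinearMap.ext fun x => (Submodule.Quotient.mk_eq_zero _).2 x.2))

theorem powSeq_shortExact (I : Ideal A) (n : ℕ) : (powSeq I n).ShortExact :=
  { exact := (ShortComplex.ShortExact.moduleCat_exact_iff_function_exact _).2
      (LinearMap.exact_subtype_mkQ (I ^ n))
    mono_f := (ModuleCat.mono_iff_injective _).2 (Submodule.injective_subtype _)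
    epi_g := (ModuleCat.epi_iff_surjective _).2 (Submodule.mkQ_surjective _) }

/-- The map of sequences for `n ≤ m`. -/
noncomputable def powMap (I : Ideal A) {n m : ℕ} (h : n ≤ m) : powSeq I m ⟶ powSeq I n where
  τ₁ := ModuleCat.ofHom (Submodule.inclusion (Ideal.pow_le_pow_right h))
  τ₂ := 𝟙 _
  τ₃ := LC.qMap I h
  comm₁₂ := rfl
  comm₂₃ := rfl

/-- If `cd(A, I) ≤ 1`, the inclusion of some power of `I` lifts along any surjection onto `I`. -/
theorem exists_lift [IsNoetherianRing A] (I : Ideal A) (h : LocCoh.CdLE A I 1) {M : Type u} [AddCommGroup M]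
    [Module A M] (π : M →ₗ[A] ↥(I ^ 1)) (hπ : Function.Surjective π) :
    ∃ (c : ℕ) (ψ : ↥(I ^ (c + 1)) →ₗ[A] M), ∀ x, ((π (ψ x) : ↥(I ^ 1)) : A) = x := by
  let S : ShortComplex (ModuleCat.{u} A) :=
    ShortComplex.mk (X₁ := ModuleCat.of A (LinearMap.ker π)) (X₂ := ModuleCat.of A M)
      (X₃ := ModuleCat.of A ↥(I ^ 1)) (ModuleCat.ofHom (Submodule.subtype _)) (ModuleCat.ofHom π)
      (ModuleCat.hom_ext (LinearMap.ext fun x => x.2))
  have hS : S.ShortExact :=
    { exact := (ShortComplex.ShortExact.moduleCat_exact_iff_function_exact _).2 π.exact_subtype_ker_map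
      mono_f := (ModuleCat.mono_iff_injective _).2 (Submodule.injective_subtype _)
      epi_g := (ModuleCat.epi_iff_surjective _).2 hπ }
  let β : Abelian.Ext (LC.qObj I 1) S.X₁ 2 := (powSeq_shortExact I 1).extClass.comp hS.extClass (show 1 + 1 = 2 from rfl)
  haveI : Subsingleton ((localCohomology I 2).obj S.X₁) := h (LinearMap.ker π) 2 (by norm_num)
  obtain ⟨m, hm, hβ⟩ := (LC.toH_eq_zero_iff I 2 β).1 (Subsingleton.elim _ _)
  obtain ⟨c, rfl⟩ : ∃ c, m = c + 1 := ⟨m - 1, by omega⟩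
  let i : (powSeq I (c + 1)).X₁ ⟶ S.X₃ := (powMap I hm).τ₁
  let γ : Abelian.Ext (powSeq I (c + 1)).X₁ S.X₁ 1 := (Abelian.Ext.mk₀ i).comp hS.extClass (zero_add 1)
  have hγ : (powSeq_shortExact I (c + 1)).extClass.comp γ (show 1 + 1 = 2 from rfl) = 0 := by
    rw [← hβ, LC.res_apply]
    show (powSeq_shortExact I (c + 1)).extClass.comp ((Abelian.Ext.mk₀ (powMap I hm).τ₁).comp hS.extClass (zero_add 1)) _ = _
    rw [← Abelian.Ext.comp_assoc _ _ _ (add_zero 1) (zero_add 1) (by omega),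
      ShortComplex.ShortExact.extClass_naturality (powSeq_shortExact I (c + 1)) (powSeq_shortExact I 1) (powMap I hm)]
    exact Abelian.Ext.comp_assoc _ _ _ (zero_add 1) (show 1 + 1 = 2 from rfl) (by omega)
  obtain ⟨x₂, hx₂⟩ := Abelian.Ext.contravariant_sequence_exact₁ (powSeq_shortExact I (c + 1)) S.X₁ γ
    (show 1 + 1 = 2 from rfl) hγ
  haveI : Projective (powSeq I (c + 1)).X₂ := inferInstanceAs (Projective (ModuleCat.of A A))
  rw [Abelian.Ext.eq_zero_of_projective x₂, Abelian.Ext.comp_zero] at hx₂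
  obtain ⟨y, hy⟩ := Abelian.Ext.covariant_sequence_exact₃ (powSeq I (c + 1)).X₁ hS (Abelian.Ext.mk₀ i)
    (zero_add 1) hx₂.symm
  obtain ⟨ψ, rfl⟩ := (Abelian.Ext.mk₀_bijective _ _).2 y
  rw [Abelian.Ext.mk₀_comp_mk₀] at hy
  have h2 := (Abelian.Ext.mk₀_bijective _ _).1 hy
  exact ⟨c, ψ.hom, fun x => congrArg (fun z : ↥(I ^ 1) => (z : A)) (ConcreteCategory.congr_hom h2 x)⟩

end Groth.Agent.H1CdOne
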